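import Cfsg.Agent.Lib.Local.PMinQuad.Pushing
import Cfsg.Agent.Lib.Sig.KInfDegree

/-!
# An offender is quadratic on every chief factor below `O_p(G)`
-/

set_option autoImplicit false
set_option linter.style.haveILetI false
set_option linter.unusedSectionVars false

namespace Cfsg.Lib.Local.PMinQuad

open Matrix Subgroup Cfsg Cfsg.Lib Cfsg.Lib.Linear.Two Cfsg.Lib.Local.GlaubermanZJ
open scoped MatrixGroups commutatorElement

universe u

variable {G : Type u} [Group G] [Finite G] {p : ℕ} [hp : Fact p.Prime]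

namespace Data

variable {T : Sylow p G} {M V N : Subgroup G}

/-- The elements of `T ∩ N` act quadratically on `V`. -/
theorem quadratic_V (d : Data p T M V N) (a : ↥N) (ha : (a : G) ∈ (T : Subgroup G)) {v : G} (hv : v ∈ V) :
    ⁅(a : G), ⁅(a : G), v⁆⁆ = 1 := by
  haveI hVn := d.V_normal
  refine commutatorElement_eq_one_iff_mul_comm.2 ?_
  set w : ↥V := ⟨(a : G) * v * (a : G)⁻¹, hVn.conj_mem v hv a⟩ * ⟨v, hv⟩⁻¹ with hw
  have hwv : (w : G) = ⁅(a : G), v⁆ := by simp [hw, commutatorElement_def]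
  rw [← hwv]
  refine (d.cfg.commute_iff hp.out d.hp2 a w).2 fun i => ?_
  have hpc : d.cfg.pc i w = ((d.cfg.blk i).ρ a : Matrix (Fin 2) (Fin 2) _) *ᵥ d.cfg.pc i ⟨v, hv⟩ +
      -d.cfg.pc i ⟨v, hv⟩ := by
    rw [hw, Cfg.pc_mul, Cfg.pc_inv, ← d.cfg.pc_conj i a ⟨v, hv⟩]
  obtain ⟨c, hc⟩ := exists_up ((d.cfg.blk i).sylow a ha)
  rw [hc, up_mulVec] at hpc
  have hv0 : d.cfg.pc i w = ![c * d.cfg.pc i ⟨v, hv⟩ 1, 0] := by
    rw [hpc]
    ext j; fin_cases j <;> simp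
  rw [hv0]
  exact UT_fix ((d.cfg.blk i).sylow a ha) _

set_option maxHeartbeats 1000000 in
/-- An offender acts quadratically on the chief factors below `O_p(G)`. -/
theorem quadratic_chief (d : Data p T M V N) {A : Subgroup G} (hA : IsMaxEAIn p (T : Subgroup G) A)
    {a : G} (haA : a ∈ A) {U U' : Subgroup G} (hc : IsChiefFactor U U')
    (hUQ : U ≤ pCore p G) {y : G} (hy : y ∈ U) : ⁅a, ⁅a, y⁆⁆ ∈ U' := by
  have ha : a ∈ thompsonSubgroupOf p (T : Subgroup G) := by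
    rw [thompsonSubgroupOf_eq_sSup]; exact (le_sSup hA : A ≤ _) haA
  haveI := d.V_normal
  haveI := d.N_normal
  classical
  haveI := d.qW_normal
  haveI : U.Normal := hc.2.1
  haveI hU'n : U'.Normal := hc.2.2.1
  set B := baumannSubgroupOf p (T : Subgroup G) with hB
  set L := bCl p (T : Subgroup G)
  set Q₀ := qW p V (T : Subgroup G) with hQ₀
  have hQp : IsPGroup p ↥(pCore p G) := Core.pCore_isPGroup p G
  have haB : a ∈ B := thompsonOf_le_baumann _ ha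
  have haL : a ∈ L := subset_normalClosure haB
  have hconjU : ∀ x ∈ U, ⁅a, x⁆ ∈ U := fun x hx => by
    rw [commutatorElement_def]
    exact mul_mem ((inferInstance : U.Normal).conj_mem x hx a) (inv_mem hx)
  have hmod : ∀ {x z : G}, z ∈ U' → ⁅a, ⁅a, x⁆⁆ ∈ U' → ⁅a, ⁅a, x * z⁆⁆ ∈ U' := fun {x z} hz hx => by
    rw [← QuotientGroup.eq_one_iff, ← QuotientGroup.mk'_apply] at hx ⊢
    rw [map_commutatorElement, map_commutatorElement, map_mul,
      show QuotientGroup.mk' U' z = 1 from (QuotientGroup.eq_one_iff z).2 hz, mul_one,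
      ← map_commutatorElement, ← map_commutatorElement, hx]
  have hsplit : ∀ X : Subgroup G, X.Normal → X ≤ U → ¬ X ≤ U' →
      (∀ x ∈ X, ⁅a, ⁅a, x⁆⁆ ∈ U') → ⁅a, ⁅a, y⁆⁆ ∈ U' := by
    intro X hXn hXU hX h
    haveI := hXn
    have hU : U = X ⊔ U' := ((hc.2.2.2 (X ⊔ U') inferInstance le_sup_right
      (sup_le hXU hc.1.le)).resolve_left fun e => hX (le_sup_left.trans e.le)).symm
    obtain ⟨x, hx, z, hz, rfl⟩ := mem_sup_of_normal_right.1 (hU ▸ hy : y ∈ X ⊔ U')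
    exact hmod hz (h x hx)
  by_cases hU0 : U ⊓ Q₀ ≤ U'
  · have h1 : ⁅a, y⁆ ∈ U' := hU0 ⟨hconjU y hy, d.closure_acts_Q haL (hUQ hy)⟩
    rw [commutatorElement_def]
    exact mul_mem (hU'n.conj_mem _ h1 a) (inv_mem h1)
  refine hsplit (U ⊓ Q₀) inferInstance inf_le_left hU0 fun x hx => ?_
  -- `[a, a, x]` is central in `B`
  set R := pCore p G ⊓ centralizer (thompsonSubgroupOf p (pCore p G) : Set G) with hR
  haveI : (thompsonSubgroupOf p (pCore p G)).Normal := by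
    rw [← normalizer_eq_top_iff, eq_top_iff, ← normalizer_eq_top (H := pCore p G)]
    exact Thompson.normalizer_le_normalizer_thompsonSubgroupOf _
  haveI : R.Normal := by rw [hR]; infer_instance
  set N₂ := R ⊓ centralizer (R : Set G) with hN₂
  haveI : N₂.Normal := by rw [hN₂]; infer_instance
  have hRQ₀ : R ≤ Q₀ := by
    intro q hq
    refine ⟨hq.1, (le_centralizer_iff.1 (sup_le ?_ ?_) : zpowers q ≤ _) (mem_zpowers q)⟩
    · exact le_centralizer_iff.1 (zpowers_le.2 (d.pCore_le_centralizer hq.1))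
    · exact le_centralizer_iff.1 (zpowers_le.2
        (centralizer_le ((d.omegaZT_le_omegaZQ.trans (omegaZ_le _)).trans inf_le_left) hq.2))
  set t := ⁅a, ⁅a, x⁆⁆ with ht
  have hxB : x ∈ B := d.qW_le_baumann hx.2
  have htU : t ∈ U := hconjU _ (hconjU _ hx.1)
  have htB : ∀ b ∈ B, Commute t b := fun b hb => by
    have h1 : ⁅⁅a, x⁆, a⁆ ∈ ⁅⁅B, B⁆, B⁆ :=
      commutator_mem_commutator (commutator_mem_commutator haB hxB) haB
    have h2 : t ∈ ⁅⁅B, B⁆, B⁆ := by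
      rw [ht, ← commutatorElement_inv ⁅a, x⁆ a]
      exact inv_mem h1
    exact commutatorElement_eq_one_iff_mul_comm.1
      (mem_bot.1 (d.gamma_four.le (commutator_mem_commutator h2 hb)))
  have htR : t ∈ R := ⟨hUQ htU, mem_centralizer_iff.2 fun j hj =>
    (htB j (thompsonOf_le_baumann _ (d.thompsonQ_le hj))).eq.symm⟩
  have htN₂ : t ∈ N₂ := ⟨htR, mem_centralizer_iff.2 fun r hr =>
    (htB r (d.qW_le_baumann (hRQ₀ hr))).eq.symm⟩
  by_cases hU2 : U ⊓ N₂ ≤ U'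
  · exact hU2 ⟨htU, htN₂⟩
  have hN₂c : ∀ {r s : G}, r ∈ N₂ → s ∈ N₂ → Commute r s := fun hr hs =>
    mem_centralizer_iff.1 hs.2 _ hr.1
  let Uk : ℕ → Subgroup G := fun k =>
    { carrier := {r | r ∈ U ⊓ N₂ ∧ r ^ p ^ k = 1}
      one_mem' := ⟨one_mem _, one_pow _⟩
      mul_mem' := fun {r s} hr hs => ⟨mul_mem hr.1 hs.1, by
        rw [(hN₂c hr.1.2 hs.1.2).mul_pow, hr.2, hs.2, one_mul]⟩
      inv_mem' := fun {r} hr => ⟨inv_mem hr.1, by rw [inv_pow, hr.2, inv_one]⟩ }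
  have hUk : ∀ k, (Uk k).Normal := fun k => ⟨fun r hr g =>
    ⟨(inferInstance : (U ⊓ N₂).Normal).conj_mem r hr.1 g, by rw [conj_pow, hr.2, mul_one, mul_inv_cancel]⟩⟩
  have hex : ∃ k, ¬ Uk k ≤ U' := by
    obtain ⟨n, hn⟩ := IsPGroup.iff_card.1 hQp
    refine ⟨n, fun h => hU2 fun r hr => h ⟨hr, ?_⟩⟩
    rw [← hn]
    exact congrArg Subtype.val (pow_card_eq_one' (x := (⟨r, hUQ hr.1⟩ : ↥(pCore p G))))
  have hk := Nat.find_spec hex
  obtain ⟨k, hk1⟩ : ∃ k, Nat.find hex = k + 1 := by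
    refine Nat.exists_eq_succ_of_ne_zero fun h0 => ?_
    rw [h0] at hk
    exact hk fun r hr => by
      have := hr.2; rw [pow_zero, pow_one] at this
      rw [this]; exact one_mem _
  rw [hk1] at hk
  have hkmin : Uk k ≤ U' := by_contra fun h => Nat.find_min hex (by omega) h
  have hUeq : U = Uk (k + 1) ⊔ U' := by
    haveI := hUk (k + 1)
    exact ((hc.2.2.2 (Uk (k + 1) ⊔ U') inferInstance le_sup_right
      (sup_le (fun r hr => hr.1.1) hc.1.le)).resolve_left fun e => hk (le_sup_left.trans e.le)).symm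
  obtain ⟨r, hr, z, hz, hrz⟩ := mem_sup_of_normal_right.1 (hUeq ▸ hx.1 : x ∈ Uk (k + 1) ⊔ U')
  rw [ht, ← hrz]
  refine hmod hz (hkmin ?_)
  -- `[a, a, r]` is killed by `p ^ k`
  have hf : ∀ s ∈ N₂, ⁅a, s⁆ ∈ N₂ := fun s hs => by
    rw [commutatorElement_def]
    exact mul_mem ((inferInstance : N₂.Normal).conj_mem s hs a) (inv_mem hs)
  have hfpow : ∀ (n : ℕ), ∀ s ∈ N₂, ⁅a, s ^ n⁆ = ⁅a, s⁆ ^ n := fun n s hs => by
    induction n with
    | zero => simp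
    | succ n ih =>
      rw [pow_succ s, pow_succ ⁅a, s⁆, ← ih,
        show ⁅a, s ^ n * s⁆ = ⁅a, s ^ n⁆ * (s ^ n * ⁅a, s⁆ * (s ^ n)⁻¹) by
          simp [commutatorElement_def, mul_assoc],
        (hN₂c (pow_mem hs n) (hf s hs)).eq, mul_inv_cancel_right]
  refine ⟨⟨hconjU _ (hconjU _ hr.1.1), hf _ (hf _ hr.1.2)⟩, ?_⟩
  rw [← hfpow _ _ (hf r hr.1.2), ← hfpow _ r hr.1.2]
  set s := r ^ p ^ k with hs
  have hsN : s ∈ N₂ := pow_mem hr.1.2 _
  have hsp : s ^ p = 1 := by rw [hs, ← pow_mul, ← pow_succ]; exact hr.2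
  have hsW : s ∈ omegaZ p (pCore p G) := by
    obtain ⟨A, hA⟩ := exists_isMaxEAIn (p := p) (pCore p G)
    have hAJ : A ≤ thompsonSubgroupOf p (pCore p G) := by
      rw [thompsonSubgroupOf_eq_sSup]; exact le_sSup hA
    exact subset_closure ⟨⟨hAJ (hA.mem_of_commute hsN.1.1 hsp fun e he =>
      (mem_centralizer_iff.1 hsN.1.2 e (hAJ he)).symm), hsN.1.2⟩, hsp⟩
  have hW : s ∈ (A ⊓ pCore p G) ⊔ V := omegaZ_le_of_isMaxEAIn (d.isMaxEAIn_star_pCore hA) hsW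
  rw [sup_comm] at hW
  obtain ⟨v, hv, e, he, hve⟩ := mem_sup_of_normal_left.1 hW
  have h1 : ⁅a, s⁆ = ⁅a, v⁆ := by
    rw [← hve, show ⁅a, v * e⁆ = ⁅a, v⁆ * (v * ⁅a, e⁆ * v⁻¹) by simp [commutatorElement_def, mul_assoc],
      commutatorElement_eq_one_iff_mul_comm.2 (Thompson.isEA_commute hA.2.1 haA he.1).eq,
      mul_one, mul_inv_cancel, mul_one]
  rw [h1]
  exact d.quadratic_V ⟨a, d.thompsonOf_le_N ha⟩ (Thompson.thompsonSubgroupOf_le _ ha) hv

end Data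

end Cfsg.Lib.Local.PMinQuad
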