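import Cfsg.Agent.Lib.Local.PMinQuad.Build
import Cfsg.Agent.Lib.Local.PMinQuad.Quadratic
import Cfsg.Agent.Lib.Sig.TransferApps

/-!
# Transfer is controlled by the normalizers of the characteristic subgroups, for odd primes
-/

set_option autoImplicit false
set_option linter.style.haveILetI false
set_option linter.unusedSectionVars false

namespace Cfsg.Lib.Local.PMinQuad

open Subgroup Cfsg Cfsg.Lib Cfsg.Lib.Local.GlaubermanZJ
open scoped commutatorElement

universe u

variable {G : Type u} [Group G] [Finite G] {p : ℕ} [hp : Fact p.Prime]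

/-- A functor with a prescribed value at `T`. -/
theorem exists_functor (T : Type u) [Group T] (K : Subgroup T) (hK : K ≠ ⊥) (hKc : K.Characteristic) :
    ∃ W : (∀ (Q : Type u) [Group Q], Subgroup Q), IsCharPFunctor.{u} p W ∧ W T = K := by
  classical
  have key : ∀ (Q : Type u) [Group Q] (e e' : T ≃* Q), K.map e.toMonoidHom = K.map e'.toMonoidHom := by
    intro Q _ e e'
    have h := characteristic_iff_map_eq.1 hKc (e.trans e'.symm)
    conv_rhs => rw [← h]
    rw [Subgroup.map_map]
    congr 1
    ext x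
    simp
  refine ⟨fun Q _ => if h : Nonempty (T ≃* Q) then K.map h.some.toMonoidHom else ⊤, ⟨?_, ?_⟩, ?_⟩
  · intro Q _ _ _ hQ
    dsimp only
    split_ifs with h
    · rw [Ne, Subgroup.map_eq_bot_iff_of_injective _ h.some.injective]; exact hK
    · exact top_ne_bot
  · intro Q R _ _ _ _ φ
    dsimp only
    by_cases h : Nonempty (T ≃* Q)
    · have h' : Nonempty (T ≃* R) := h.map fun e => e.trans φ
      rw [dif_pos h, dif_pos h', Subgroup.map_map]
      exact key R (h.some.trans φ) h'.some
    · have h' : ¬ Nonempty (T ≃* R) := fun hR => h (hR.map fun e => e.trans φ.symm)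
      rw [dif_neg h, dif_neg h']
      exact map_top_of_surjective _ φ.surjective
  · dsimp only
    rw [dif_pos (⟨MulEquiv.refl T⟩ : Nonempty (T ≃* T))]
    exact (key T _ (MulEquiv.refl T)).trans (Subgroup.map_id K)

/-- An element of `T` outside `O_p` acting with small degree on the chief factors below it. -/
theorem exists_small_degree (h2 : p ≠ 2) (hc : centralizer (pCore p G : Set G) ≤ pCore p G)
    (T : Sylow p G) (hT : (T : Subgroup G) ≠ ⊥) {M : Subgroup G} (hTM : (T : Subgroup G) ≤ M)
    (hMne : M ≠ ⊤) (huniq : ∀ K : Subgroup G, (T : Subgroup G) ≤ K → K ≤ M ∨ K = ⊤)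
    (hchar : ∀ K : Subgroup ↥(T : Subgroup G), K ≠ ⊥ → K.Characteristic →
      normalizer ((K.map (T : Subgroup G).subtype : Subgroup G) : Set G) ≤ M) :
    ∃ a : G, a ∈ (T : Subgroup G) ∧ a ∉ pCore p G ∧ ∀ U U' : Subgroup G, IsChiefFactor U U' →
      U ≤ pCore p G → iterCommutator U (zpowers a) (p - 1) ≤ U' := by
  classical
  have hQT : pCore p G ≤ (T : Subgroup G) := Core.pCore_le_sylow T
  have hTn : ¬ (T : Subgroup G).Normal := fun hn => hMne (top_le_iff.1 (le_trans
    (by rw [← MonoidHom.range_eq_map, range_subtype, normalizer_eq_top_iff.2 hn])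
    (hchar ⊤ (fun e => hT (by
      rw [← range_subtype (T : Subgroup G), MonoidHom.range_eq_map, e, Subgroup.map_bot]))
      inferInstance)))
  have hcoatom : IsCoatom M := ⟨hMne, fun K hK => (huniq K (hTM.trans hK.le)).resolve_left hK.not_ge⟩
  have hmin : IsPMinimal p G := by
    intro S
    obtain ⟨g, hg⟩ := MulAction.exists_smul_eq G T S
    have hmap : (T : Subgroup G).map (MulAut.conj g).toMonoidHom = (S : Subgroup G) := by
      rw [← hg]; rfl
    have hinv : ∀ (x : G) (K : Subgroup G),
        (K.map (MulAut.conj x).toMonoidHom).map (MulAut.conj x⁻¹).toMonoidHom = K := fun x K => by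
      rw [Subgroup.map_map]
      convert Subgroup.map_id K
      ext y
      simp [mul_assoc]
    have hco : ∀ (x : G) (K : Subgroup G), IsCoatom K → IsCoatom (K.map (MulAut.conj x).toMonoidHom) := by
      intro x K hK
      refine ⟨fun e => hK.1 ?_, fun L hL => ?_⟩
      · rw [← hinv x K, e]
        exact map_top_of_surjective _ (MulAut.conj x⁻¹).surjective
      · have h1 : K < L.map (MulAut.conj x⁻¹).toMonoidHom := by
          rw [← hinv x K]
          exact (map_lt_map_iff_of_injective (MulAut.conj x⁻¹).injective).2 hL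
        have h2 := congrArg (Subgroup.map (MulAut.conj x).toMonoidHom) (hK.2 _ h1)
        rw [map_top_of_surjective _ (MulAut.conj x).surjective] at h2
        rw [← h2, ← inv_inv x, inv_inv x⁻¹, ← inv_inv x]
        simpa using (hinv x⁻¹ L).symm
    refine ⟨fun hn => hTn ?_, M.map (MulAut.conj g).toMonoidHom,
      ⟨hco g M hcoatom, hmap ▸ map_mono hTM⟩, fun L ⟨hL, hSL⟩ => ?_⟩
    · haveI := hn
      have h1 := Normal.map_conj_eq (S : Subgroup G) g⁻¹
      rw [← hmap] at h1
      rw [(hinv g (T : Subgroup G)).symm.trans h1, hmap]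
      exact hn
    · have hT1 : (T : Subgroup G) ≤ L.map (MulAut.conj g⁻¹).toMonoidHom := by
        rw [← hinv g (T : Subgroup G), hmap]
        exact map_mono hSL
      have h1 : L.map (MulAut.conj g⁻¹).toMonoidHom = M :=
        ((huniq _ hT1).resolve_right (hco g⁻¹ L hL).1).antisymm
          (by
            by_contra hnle
            exact hMne ((hco g⁻¹ L hL).2 M
              (lt_of_le_not_ge ((huniq _ hT1).resolve_right (hco g⁻¹ L hL).1) hnle)))
      have h2 := hinv g⁻¹ L
      rw [inv_inv, h1] at h2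
      exact h2.symm
  have hnorm : ∀ K : Subgroup ↥(T : Subgroup G), K ≠ ⊥ → K.Characteristic →
      centralizer ((K.map (T : Subgroup G).subtype : Subgroup G) : Set G) ≤ M := fun K h1 h3 =>
    (centralizer_le_normalizer _).trans (hchar K h1 h3)
  -- `Ω₁(Z(T))`
  set Z := omegaOneCenter p (T : Subgroup G) with hZ
  have hZM : centralizer (Z : Set G) ≤ M := by
    haveI : Nontrivial ↥(T : Subgroup G) := (nontrivial_iff_ne_bot _).2 hT
    have hne : omegaOne p (center ↥(T : Subgroup G)) ≠ ⊥ := fun e => by
      haveI := T.isPGroup'.center_nontrivial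
      obtain ⟨n, hn, hcard⟩ := (T.isPGroup'.to_subgroup (center ↥(T : Subgroup G))).nontrivial_iff_card.1
        inferInstance
      obtain ⟨z, hz⟩ := exists_prime_orderOf_dvd_card' (G := ↥(center ↥(T : Subgroup G))) p
        (hcard ▸ dvd_pow_self p hn.ne')
      have hmem : (z : ↥(T : Subgroup G)) ∈ omegaOne p (center ↥(T : Subgroup G)) :=
        subset_closure ⟨z.2, by
          have h1 := pow_orderOf_eq_one z
          rw [hz] at h1
          exact congrArg Subtype.val h1⟩
      rw [e, mem_bot] at hmem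
      rw [show z = 1 from Subtype.ext hmem, orderOf_one] at hz
      exact hp.out.ne_one hz.symm
    have hch : (omegaOne p (center ↥(T : Subgroup G))).Characteristic :=
      characteristic_iff_map_eq.2 fun e => by
        rw [Baumann.map_omegaOne _ e.injective,
          characteristic_iff_map_eq.1 (inferInstance : (center ↥(T : Subgroup G)).Characteristic) e]
    have := hnorm _ hne hch
    rwa [Baumann.map_omegaOne _ (subtype_injective _), PushingUp.map_subtype_center] at this
  have hJM : normalizer (thompsonSubgroupOf p (T : Subgroup G) : Set G) ≤ M := by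
    refine hchar _ (fun e => Thompson.thompsonSubgroupOf_ne_bot T.isPGroup' hT (by
      rw [thompsonSubgroupOf, e, Subgroup.map_bot])) ?_
    exact characteristic_iff_map_eq.2 fun e => Thompson.map_thompson_eq e
  have hne : cStarStarOf p (T : Subgroup G) ≠ ⊤ := fun e =>
    hMne (top_le_iff.1 (e.ge.trans (sup_le hZM hJM)))
  have hCM : centralizer (omegaOneCenter p (pCore p G) : Set G) ≤ M := by
    refine (Subgroup.centralizer_le ?_).trans hZM
    refine SetLike.coe_subset_coe.2 ((closure_le _).2 fun x hx => ?_)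
    have hxQ : x ∈ pCore p G := hc (centralizer_le (by exact_mod_cast hQT) hx.1.2)
    exact Subgroup.subset_closure ⟨⟨hxQ, centralizer_le (by exact_mod_cast hQT) hx.1.2⟩, hx.2⟩
  obtain ⟨cfg⟩ := exists_cfg h2 hmin hc T hne
  have d : Data p T M _ _ := ⟨hc, rfl, h2, hMne, hTM, huniq, hchar, hT, hCM, cfg⟩
  obtain ⟨A, hA, hAQ⟩ : ∃ A, IsMaxEAIn p (T : Subgroup G) A ∧ ¬ A ≤ pCore p G := by
    by_contra hall
    push Not at hall
    refine d.thompsonOf_not_le ?_
    rw [thompsonSubgroupOf_eq_sSup]
    exact sSup_le hall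
  obtain ⟨a, haA, haQ⟩ := SetLike.not_le_iff_exists.1 hAQ
  refine ⟨a, hA.1 haA, haQ, fun U U' hUU' hU => ?_⟩
  haveI := hUU'.2.1
  haveI := hUU'.2.2.1
  have hQp : IsPGroup p ↥(pCore p G) := Core.pCore_isPGroup p G
  have h2' : iterCommutator U (zpowers a) 2 ≤ U' := by
    refine Sig.iterCommutator_le_of_iterate ((commutator_mono le_rfl hU).trans
      (Sig.commutator_chiefFactor_le hUU' (hQp.to_le hU) hQp)) fun x hx => ?_
    exact d.quadratic_chief hA haA hUU' hU hx
  obtain ⟨k, hk⟩ := Nat.exists_eq_add_of_le (show 2 ≤ p - 1 by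
    have := hp.out.two_le; omega)
  rw [hk]
  clear hk
  induction k with
  | zero => exact h2'
  | succ k ih => exact (commutator_mono ih le_rfl).trans (commutator_le_left U' _)

/-- All isomorphism invariant functors. -/
def allFunctors (p : ℕ) : Set (∀ (Q : Type u) [Group Q], Subgroup Q) := {W | IsCharPFunctor.{u} p W}

theorem transferStep_all (h2 : p ≠ 2) {Y : Type u} [Group Y] [Finite Y]
    (hc : centralizer (pCore p Y : Set Y) ≤ pCore p Y) :
    Sig.TransferStep (allFunctors.{u} p) p Y := by
  intro T hfrom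
  by_contra hfail
  have h𝓕 := Sig.isConjugacyFunctor_inducedFamily (p := p) (allFunctors.{u} p) (fun W hW => hW) Y
  have hT : (T : Subgroup Y) ≠ ⊥ := fun e => hfail (by
    refine le_trans (inf_le_left.trans ((Core.pCore_le_sylow T).trans e.le)) bot_le)
  haveI : Nontrivial ↥(T : Subgroup Y) := (nontrivial_iff_ne_bot _).2 hT
  obtain ⟨W₀, hW₀, -⟩ := exists_functor (p := p) ↥(T : Subgroup Y) ⊤ top_ne_bot inferInstance
  have hne : (Sig.inducedFamily (allFunctors.{u} p) Y).Nonempty := ⟨_, ⟨W₀, hW₀, rfl⟩⟩
  obtain ⟨hTM, hMne, hover, -⟩ := Sig.transferFailure_maximal h𝓕 hne T hfrom hfail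
  refine absurd (exists_small_degree h2 hc T hT hTM hMne (fun K hK => ?_) fun K hK hKc => ?_) ?_
  · rcases eq_or_ne K ⊤ with e | e
    · exact Or.inr e
    · exact Or.inl (hover K hK e)
  · obtain ⟨W, hW, hWT⟩ := exists_functor (p := p) ↥(T : Subgroup Y) K hK hKc
    have hWind : inducedFunctor (G := Y) W (T : Subgroup Y) = K.map (T : Subgroup Y).subtype := by
      rw [inducedFunctor, hWT]
    refine hover _ ?_ fun e => hfail ?_
    · haveI := hKc
      exact le_normalizer.trans (Core.normalizer_le_normalizer_map_char _)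
    · refine le_trans ?_ (le_iSup₂ (f := fun (W : Subgroup Y → Subgroup Y) _ => (T : Subgroup Y) ⊓
        ⁅normalizer ((W (T : Subgroup Y) : Subgroup Y) : Set Y),
          normalizer ((W (T : Subgroup Y) : Subgroup Y) : Set Y)⁆) _ ⟨W, hW, rfl⟩)
      show _ ≤ (T : Subgroup Y) ⊓ ⁅normalizer ((inducedFunctor (G := Y) W (T : Subgroup Y) : Subgroup Y) : Set Y),
        normalizer ((inducedFunctor (G := Y) W (T : Subgroup Y) : Subgroup Y) : Set Y)⁆
      rw [hWind, e, ← _root_.commutator_def]
      exact inf_le_inf_right _ (Core.pCore_le_sylow T)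
  · rintro ⟨a, ha, haQ, hdeg⟩
    obtain ⟨U, U', hUU', hU, hnot⟩ := Sig.transferFailure_degree h𝓕 hne T hfrom hfail a ha haQ
    exact hnot (hdeg U U' hUU' hU)

/-- The focal subgroup is generated by those of the normalizers of the characteristic subgroups. -/
theorem focal_eq_iSup_char (h2 : p ≠ 2) (S : Sylow p G) (hS : (S : Subgroup G) ≠ ⊥) :
    (S : Subgroup G) ⊓ commutator G =
      ⨆ K : {K : Subgroup ↥(S : Subgroup G) // K ≠ ⊥ ∧ K.Characteristic}, (S : Subgroup G) ⊓
        ⁅normalizer ((((K : Subgroup ↥(S : Subgroup G))).map (S : Subgroup G).subtype : Subgroup G) : Set G),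
          normalizer ((((K : Subgroup ↥(S : Subgroup G))).map (S : Subgroup G).subtype : Subgroup G) : Set G)⁆ := by
  refine le_antisymm ?_ (iSup_le fun K => inf_le_inf_left _
    ((commutator_mono le_top le_top).trans (commutator_def G).ge))
  have hctl := Sig.transfer_of_step (p := p) (allFunctors.{u} p) (fun W hW => hW) (Nat.card G) G le_rfl
    (fun Y _ _ _ _ _ hc => transferStep_all h2 hc)
  have h := Sig.familyControlsTransferIn_at (Sig.isConjugacyFunctor_inducedFamily (allFunctors.{u} p)
    (fun W hW => hW) G) hctl le_top S.2 (by simpa using S.not_dvd_index)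
  rw [← _root_.commutator_def] at h
  rw [h]
  refine iSup₂_le ?_
  rintro _ ⟨W, hW, rfl⟩
  haveI : Nontrivial ↥(S : Subgroup G) := (nontrivial_iff_ne_bot _).2 hS
  refine le_iSup_of_le ⟨W ↥(S : Subgroup G), hW.1 _ S.2 inferInstance,
    characteristic_iff_map_eq.2 fun φ => hW.2 _ _ S.2 φ⟩ ?_
  exact inf_le_inf_left _ (commutator_mono inf_le_right inf_le_right)

end Cfsg.Lib.Local.PMinQuad
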